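import Cfsg.Agent.Lib.Pronormal2.Unitary.Defs
import Cfsg.Agent.Lib.Pronormal2.BaseTwo

/-!
Odd normalizers in `GU₂(q)`.
-/

set_option autoImplicit false
set_option linter.style.haveILetI false
set_option linter.unusedSectionVars false

namespace Cfsg.Agent.Lib.Pronormal2.Unitary

open Matrix Cfsg.Agent.Lib.Classical
open scoped MatrixGroups

universe u

variable {F : Type u} [Field F] [Fintype F]

set_option maxHeartbeats 1000000 in
theorem oddCentral_two {q : ℕ} (S : TwoSub F (Fin 2)) (hSG : (S : Subgroup (GL (Fin 2) F)) ≤ gu F (Fin 2) q)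
    (hfacts : ∃ a b : ↥((S : Subgroup (GL (Fin 2) F)) ⊓ slK F (Fin 2)), Subgroup.closure {a, b} = ⊤ ∧
      CycTwo (Subgroup.zpowers a) ∧ a * b ≠ b * a)
    (hns : ∃ s ∈ (S : Subgroup (GL (Fin 2) F)), ¬ ∃ r : Fˣ, r ^ (q + 1) = 1 ∧ GeneralLinearGroup.det s = r * r) :
    OddCentralIn (gu F (Fin 2) q) (S : Subgroup (GL (Fin 2) F)) := by
  intro x _ hx hn
  haveI : Fact (Nat.Prime 2) := ⟨Nat.prime_two⟩
  set Q : Subgroup (GL (Fin 2) F) := (S : Subgroup (GL (Fin 2) F)) ⊓ slK F (Fin 2) with hQdef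
  obtain ⟨a, b, hgen0, hcyc0, hne0⟩ := hfacts
  have hQp : IsPGroup 2 Q := S.2.1.to_le inf_le_left
  have hnQ : ∀ g : GL (Fin 2) F, (∀ s ∈ (S : Subgroup (GL (Fin 2) F)), g * s * g⁻¹ ∈ (S : Subgroup (GL (Fin 2) F))) →
      g ∈ Subgroup.normalizer (Q : Set (GL (Fin 2) F)) := by
    intro g hg
    refine Subgroup.mem_normalizer_iff_map_conj_eq.2 (Subgroup.eq_of_le_of_card_ge ?_
      (by rw [Subgroup.card_map_of_injective (MulAut.conj g).injective]))
    rintro _ ⟨q, hq, rfl⟩
    exact ⟨hg q hq.1, Subgroup.Normal.conj_mem inferInstance q hq.2 g⟩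
  let X : Subgroup.normalizer (Q : Set (GL (Fin 2) F)) := ⟨x, hnQ x hn⟩
  let ρ := Q.normalizerMonoidHom
  have hρ : ∀ (g : Subgroup.normalizer (Q : Set (GL (Fin 2) F))) (q : Q),
      ((ρ g q : Q) : GL (Fin 2) F) = g * q * (g : GL (Fin 2) F)⁻¹ := fun g q => rfl
  have hab : (a : GL (Fin 2) F) * b ≠ b * a := fun h => hne0 (Subtype.ext h)
  have hfixcomm : ∀ (g : Subgroup.normalizer (Q : Set (GL (Fin 2) F))) (q : Q), ρ g q = q →
      (q : GL (Fin 2) F) * g = g * q := by
    intro g q h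
    have := congrArg Subtype.val h
    rw [hρ, mul_inv_eq_iff_eq_mul] at this
    exact this.symm
  set φ := ρ X with hφdef
  by_cases hφ1 : φ = 1
  · exact central_of_commute hab (hfixcomm X a (by rw [← hφdef, hφ1]; rfl))
      (hfixcomm X b (by rw [← hφdef, hφ1]; rfl))
  exfalso
  have hXord : orderOf X = orderOf x :=
    (orderOf_injective (Subgroup.normalizer (Q : Set (GL (Fin 2) F))).subtype Subtype.val_injective X).symm
  have hφo : Odd (orderOf φ) := hx.of_dvd_nat (by rw [← hXord]; exact orderOf_map_dvd ρ X)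
  obtain ⟨A, B, hAB, hC⟩ : ∃ A B : Q, Subgroup.closure {A, B} = ⊤ ∧ CycTwo (Subgroup.zpowers A) :=
    ⟨a, b, hgen0, hcyc0⟩
  set C := Subgroup.zpowers A with hCdef
  obtain ⟨hCD, -, -, -, -⟩ := three_cycle hQp hAB hφo hφ1 hC
  set D := C.map φ.toMonoidHom with hDdef
  have hDC : CycTwo D := cycTwo_map hC φ
  set d := φ A with hd
  have hDz : D = Subgroup.zpowers d := by rw [hDdef, hCdef, MonoidHom.map_zpowers]; rfl
  -- `2`-elements of the normalizer fix the cyclic subgroups
  have hfix : ∀ s ∈ (S : Subgroup (GL (Fin 2) F)), ∀ hs : s ∈ Subgroup.normalizer (Q : Set (GL (Fin 2) F)),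
      ∀ Z, CycTwo Z → Z.map (ρ ⟨s, hs⟩).toMonoidHom = Z := by
    intro s hsS hs Z hZ
    obtain ⟨m, hm⟩ := S.2.1 ⟨s, hsS⟩
    have hm' : (⟨s, hs⟩ : Subgroup.normalizer (Q : Set (GL (Fin 2) F))) ^ 2 ^ m = 1 :=
      Subtype.ext (by simpa using congrArg Subtype.val hm)
    refine fix_of_comm hQp hAB hφo hφ1 hZ (m := m) (by rw [← map_pow, hm', map_one]) fun Y hY => ?_
    have hq : x * s * x⁻¹ * s⁻¹ ∈ Q := by
      refine ⟨Subgroup.mul_mem _ (hn s hsS) (Subgroup.inv_mem _ hsS), ?_⟩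
      show x * s * x⁻¹ * s⁻¹ ∈ slK F (Fin 2)
      rw [MonoidHom.mem_ker, map_mul, map_mul, map_mul, map_inv, map_inv]
      simp [mul_comm, mul_assoc]
    have key : ρ X * ρ ⟨s, hs⟩ = MulAut.conj (⟨_, hq⟩ : Q) * (ρ ⟨s, hs⟩ * ρ X) := by
      refine MulEquiv.ext fun q => Subtype.ext ?_
      simp only [MulAut.mul_apply, MulAut.conj_apply, Subgroup.coe_mul, Subgroup.coe_inv, hρ]
      simp only [X]
      group
    set σ := ρ ⟨s, hs⟩
    have e' : ∀ (α β : MulAut Q) (U : Subgroup Q),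
        U.map (α * β : MulAut Q).toMonoidHom = (U.map β.toMonoidHom).map α.toMonoidHom := fun α β U => by
      rw [Subgroup.map_map]; rfl
    rw [← e', ← e', key, e' (MulAut.conj (⟨_, hq⟩ : Q))]
    exact (map_conj_cycTwo (cycTwo_map hY (σ * ρ X)).2 (⟨_, hq⟩ : Q)).symm
  -- squares are `±1`
  have hgen : Subgroup.closure {A, d} = ⊤ := by
    refine top_le_iff.1 fun y _ => ?_
    set U := Subgroup.closure {A, d}
    have hCU : C ≤ U := Subgroup.zpowers_le.2 (Subgroup.subset_closure (Or.inl rfl))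
    have hdU : d ∈ U := Subgroup.subset_closure (Or.inr rfl)
    have hdC : d ∉ C := fun h => hCD (Subgroup.eq_of_le_of_card_ge (hDz ▸ Subgroup.zpowers_le.2 h) (by
      have h1 := C.card_mul_index
      have h2 := D.card_mul_index
      rw [hC.2] at h1; rw [hDC.2] at h2
      omega)).symm
    by_cases hy : y ∈ C
    · exact hCU hy
    · have : d⁻¹ * y ∈ C :=
        (Subgroup.mul_mem_iff_of_index_two hC.2).2 (iff_of_false (fun h => hdC (inv_mem_iff.1 h)) hy)
      simpa using mul_mem hdU (hCU this)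
  have hnc : (A : GL (Fin 2) F) * d ≠ d * A := by
    intro h
    apply hab
    have hc : ∀ y : Q, (y : GL (Fin 2) F) * A = A * y ∧ (y : GL (Fin 2) F) * d = d * y := by
      intro y
      have : y ∈ Subgroup.closure {A, d} := hgen ▸ Subgroup.mem_top y
      induction this using Subgroup.closure_induction with
      | mem z hz => rcases hz with rfl | rfl <;> simp [h]
      | one => simp
      | mul z w _ _ hz hw =>
        simp only [Subgroup.coe_mul]
        exact ⟨(Commute.mul_left (show Commute (z : GL (Fin 2) F) A from hz.1) hw.1).eq,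
          (Commute.mul_left (show Commute (z : GL (Fin 2) F) d from hz.2) hw.2).eq⟩
      | inv z _ hz =>
        simp only [Subgroup.coe_inv]
        exact ⟨(Commute.inv_left (show Commute (z : GL (Fin 2) F) A from hz.1)).eq,
          (Commute.inv_left (show Commute (z : GL (Fin 2) F) d from hz.2)).eq⟩
    suffices hall : ∀ z : Q, z ∈ Subgroup.closure {A, d} → (z : GL (Fin 2) F) * b = b * z from
      hall a (hgen ▸ Subgroup.mem_top a)
    intro z hz
    induction hz using Subgroup.closure_induction with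
    | mem z hz => rcases hz with rfl | rfl; exacts [(hc b).1.symm, (hc b).2.symm]
    | one => simp
    | mul z w _ _ hz hw =>
      simp only [Subgroup.coe_mul]
      exact (Commute.mul_left (show Commute (z : GL (Fin 2) F) b from hz) hw).eq
    | inv z _ hz =>
      simp only [Subgroup.coe_inv]
      exact (Commute.inv_left (show Commute (z : GL (Fin 2) F) b from hz)).eq
  have hpm : ∀ y : Q, y ∈ C → y ∈ D → (y : GL (Fin 2) F) * y = 1 := by
    intro y hyC hyD
    obtain ⟨i, rfl⟩ := hyC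
    rw [hDz] at hyD
    obtain ⟨j, hj⟩ := hyD
    refine sq_eq_one_of_center_slK (central_of_commute hnc ?_ ?_) (A ^ i).2.2
    · rw [SubgroupClass.coe_zpow]; exact (Commute.self_zpow _ i).eq
    · rw [← hj, SubgroupClass.coe_zpow]; exact (Commute.self_zpow _ j).eq
  have hfour : ∀ g : Q, (g = A ∨ g = d) → g ^ 4 = 1 := by
    intro g hg
    have hsq : ∀ Z, CycTwo Z → g * g ∈ Z := fun Z hZ => Subgroup.mul_self_mem_of_index_two hZ.2 g
    have := hpm (g * g) (hsq C hC) (hsq D hDC)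
    refine Subtype.ext ?_
    simpa [pow_succ, mul_assoc] using this
  have hgens : ∀ (g : Q) (τ : MulAut Q), (g = A ∨ g = d) →
      (Subgroup.zpowers g).map τ.toMonoidHom = Subgroup.zpowers g → τ g = g ∨ τ g = g⁻¹ := by
    intro g τ hg hτ
    obtain ⟨k, hk⟩ : τ g ∈ Subgroup.zpowers g := hτ ▸ ⟨g, Subgroup.mem_zpowers g, rfl⟩
    have h4 := hfour g hg
    have hk' : τ g = g ^ (k % 4) := by
      rw [← hk]
      show g ^ k = _
      conv_lhs => rw [← Int.emod_add_mul_ediv k 4]
      rw [_root_.zpow_add, _root_.zpow_mul, show g ^ (4 : ℤ) = 1 by exact_mod_cast h4, _root_.one_zpow, mul_one]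
    rcases (show k % 4 = 0 ∨ k % 4 = 1 ∨ k % 4 = 2 ∨ k % 4 = 3 by omega) with h | h | h | h <;> rw [h] at hk'
    · have : g = 1 := τ.injective (by rw [hk', map_one]; simp)
      exact Or.inl (by simp [this])
    · exact Or.inl (by simpa using hk')
    · left
      have h2 : (τ g) * (τ g) = 1 := by
        rw [hk', ← _root_.zpow_add]; exact_mod_cast h4
      have h3 : g * g = 1 := τ.injective (by rw [map_mul, h2, map_one])
      have : τ g = 1 := by rw [hk', show (2 : ℤ) = 1 + 1 from rfl, _root_.zpow_add, _root_.zpow_one, h3]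
      rw [show g = 1 from τ.injective (by rw [this, map_one]), map_one]
    · right
      rw [hk', eq_inv_iff_mul_eq_one, ← _root_.zpow_add_one]; exact_mod_cast h4
  have hconjd : (d : GL (Fin 2) F) * A * (d : GL (Fin 2) F)⁻¹ = (A : GL (Fin 2) F)⁻¹ := by
    rcases hgens A (MulAut.conj d) (Or.inl rfl) (by
      haveI : C.Normal := Subgroup.normal_of_index_eq_two hC.2
      exact Subgroup.mem_normalizer_iff_map_conj_eq.1 (Subgroup.normalizer_eq_top C ▸ Subgroup.mem_top d)) with h | h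
    · exfalso
      have := congrArg Subtype.val h
      simp only [MulAut.conj_apply, Subgroup.coe_mul, Subgroup.coe_inv, mul_inv_eq_iff_eq_mul] at this
      exact hnc this.symm
    · simpa using congrArg Subtype.val h
  have hconjA : (A : GL (Fin 2) F) * d * (A : GL (Fin 2) F)⁻¹ = (d : GL (Fin 2) F)⁻¹ := by
    rcases hgens d (MulAut.conj A) (Or.inr rfl) (by
      haveI : D.Normal := Subgroup.normal_of_index_eq_two hDC.2
      rw [← hDz]
      exact Subgroup.mem_normalizer_iff_map_conj_eq.1 (Subgroup.normalizer_eq_top D ▸ Subgroup.mem_top A)) with h | h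
    · exfalso
      have := congrArg Subtype.val h
      simp only [MulAut.conj_apply, Subgroup.coe_mul, Subgroup.coe_inv, mul_inv_eq_iff_eq_mul] at this
      exact hnc this
    · simpa using congrArg Subtype.val h
  have hdet : ∀ s ∈ (S : Subgroup (GL (Fin 2) F)),
      ∃ r : Fˣ, r ^ (q + 1) = 1 ∧ GeneralLinearGroup.det s = r * r := by
    intro s hsS
    have hs : s ∈ Subgroup.normalizer (Q : Set (GL (Fin 2) F)) :=
      hnQ s fun t ht => mul_mem (mul_mem hsS ht) (inv_mem hsS)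
    have f1 := hgens A (ρ ⟨s, hs⟩) (Or.inl rfl) (hfix s hsS hs C hC)
    have f2 := hgens d (ρ ⟨s, hs⟩) (Or.inr rfl) (hDz ▸ hfix s hsS hs D hDC)
    obtain ⟨q', hqA, hqd⟩ : ∃ q' : Q, (q' : GL (Fin 2) F) * A * (q' : GL (Fin 2) F)⁻¹ = s * A * s⁻¹ ∧
        (q' : GL (Fin 2) F) * d * (q' : GL (Fin 2) F)⁻¹ = s * d * s⁻¹ := by
      rcases f1 with h1 | h1 <;> rcases f2 with h2 | h2 <;>
        replace h1 := congrArg Subtype.val h1 <;> replace h2 := congrArg Subtype.val h2 <;>
        simp only [hρ, Subgroup.coe_inv] at h1 h2 <;> rw [h1, h2]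
      · exact ⟨1, by simp, by simp⟩
      · exact ⟨A, by simp, hconjA⟩
      · exact ⟨d, hconjd, by simp⟩
      · refine ⟨A * d, ?_, ?_⟩
        · rw [Subgroup.coe_mul, show (A : GL (Fin 2) F) * d * A * ((A : GL (Fin 2) F) * d)⁻¹ =
            A * ((d : GL (Fin 2) F) * A * (d : GL (Fin 2) F)⁻¹) * (A : GL (Fin 2) F)⁻¹ by group, hconjd]
          group
        · rw [Subgroup.coe_mul, show (A : GL (Fin 2) F) * d * d * ((A : GL (Fin 2) F) * d)⁻¹ =
            A * (d : GL (Fin 2) F) * (A : GL (Fin 2) F)⁻¹ by group, hconjA]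
    have hz : (q' : GL (Fin 2) F)⁻¹ * s ∈ Subgroup.center (GL (Fin 2) F) := by
      have hh : ∀ g : GL (Fin 2) F, (q' : GL (Fin 2) F) * g * (q' : GL (Fin 2) F)⁻¹ = s * g * s⁻¹ →
          g * ((q' : GL (Fin 2) F)⁻¹ * s) = (q' : GL (Fin 2) F)⁻¹ * s * g := fun g hg => by
        calc g * ((q' : GL (Fin 2) F)⁻¹ * s) =
            (q' : GL (Fin 2) F)⁻¹ * ((q' : GL (Fin 2) F) * g * (q' : GL (Fin 2) F)⁻¹) * s := by group
          _ = (q' : GL (Fin 2) F)⁻¹ * (s * g * s⁻¹) * s := by rw [hg]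
          _ = _ := by group
      exact central_of_commute hnc (hh A hqA) (hh d hqd)
    obtain ⟨r, hr⟩ := exists_scalar_of_center hz
    refine ⟨r, scalar_mem_gu (hr ▸ Subgroup.mul_mem _ (Subgroup.inv_mem _ (hSG q'.2.1)) (hSG hsS)), ?_⟩
    rw [show s = (q' : GL (Fin 2) F) * GeneralLinearGroup.scalar (Fin 2) r by rw [← hr, mul_inv_cancel_left],
      map_mul, det_scalar_two, show GeneralLinearGroup.det (q' : GL (Fin 2) F) = 1 from q'.2.2, one_mul]
  obtain ⟨s, hsS, hs⟩ := hns
  exact hs (hdet s hsS)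

end Cfsg.Agent.Lib.Pronormal2.Unitary
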